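import Groth.Agent.RegImm10.BlowP2.Point
import Groth.Agent.RegImm10.BlowCech.Pushed
import Groth.Agent.RegImm10.BlowCech.Resolve
import Groth.Agent.Crv77.FiniteSupp

/-!
The cohomology of `m^b O(a)` on the projective plane, `m` the ideal of a closed point.
-/

set_option autoImplicit false
set_option linter.style.haveILetI false
set_option backward.isDefEq.respectTransparency.types false

noncomputable section

universe u

open CategoryTheory CategoryTheory.Limits AlgebraicGeometry Opposite TopologicalSpace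

namespace Groth.Agent.RegImm10.BlowP2

open Var76 (LineBundle.IsFrame LineBundle.res LineBundle.res_res LineBundle.res_smul)

variable {k : Type u} [Field k] {p : ↥(P2 k)} {hp : IsClosed ({p} : Set ↥(P2 k))}

/-- The twisting sheaf. -/
abbrev O (k : Type u) [Field k] (a : ℤ) : (P2 k).Modules := Twist.twistProjSpace 2 k a

theorem res_toGlobal (l : Fin 3) (r : k) :
    (P2 k).presheaf.map (homOfLE (le_top : chart k l ≤ ⊤)).op
      (Coh.toGlobal (P2 k ↘ Spec (CommRingCat.of k)) r) = cst l r := by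
  show _ = Scheme.Hom.appLE _ ⊤ (chart k l) _ ((Scheme.ΓSpecIso (CommRingCat.of k)).inv r)
  rfl

theorem isInvertible_O (a : ℤ) : PicF.IsInvertible (O k a) :=
  Mero90.isInvertible_of_frames fun x => by
    obtain ⟨l, hl⟩ := Var76.Reg.exists_mem_xOpen 2 k x
    exact ⟨_, hl, _, Var76.Reg.isFrame_pSec l a⟩

namespace Centre

variable (C₀ : Centre p hp) (a : ℤ) (b : ℕ)

/-- The frame of the twist on the chart. -/
abbrev e : Γ(O k a, chart k C₀.l) := Var76.Reg.pSec C₀.l a le_rfl

theorem bij_e : Function.Bijective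
    (fun c : Γ(P2 k, chart k C₀.l) => c • C₀.e a) := by
  have h := Var76.Reg.isFrame_pSec (k := k) C₀.l a (chart k C₀.l) le_rfl
  have e' : (fun c : Γ(P2 k, chart k C₀.l) => c • C₀.e a) =
      fun c : Γ(P2 k, chart k C₀.l) => c • LineBundle.res (O k a) le_rfl (C₀.e a) := by
    funext c
    simp [LineBundle.res]
  rw [e']
  exact h

/-- The coordinate of a section on the chart, as a polynomial. -/
def coP (z : Γ(O k a, chart k C₀.l)) : MvPolynomial (Fin 2) k :=
  (RingEquiv.ofBijective _ C₀.bij).symm ((Equiv.ofBijective _ (C₀.bij_e a)).symm z)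

theorem evP_coP (z : Γ(O k a, chart k C₀.l)) : evP C₀.l C₀.c (C₀.coP a z) • C₀.e a = z := by
  rw [coP, show ∀ y, evP C₀.l C₀.c ((RingEquiv.ofBijective _ C₀.bij).symm y) = y from
    (RingEquiv.ofBijective _ C₀.bij).apply_symm_apply]
  exact (Equiv.ofBijective _ (C₀.bij_e a)).apply_symm_apply z

theorem coP_smul_e (q : MvPolynomial (Fin 2) k) : C₀.coP a (evP C₀.l C₀.c q • C₀.e a) = q :=
  C₀.bij.1 ((C₀.bij_e a).1 (C₀.evP_coP a _))

theorem coP_add (z z' : Γ(O k a, chart k C₀.l)) : C₀.coP a (z + z') = C₀.coP a z + C₀.coP a z' := by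
  conv_lhs => rw [← C₀.evP_coP a z, ← C₀.evP_coP a z', ← add_smul, ← map_add, coP_smul_e]

theorem coP_const_smul (r : k) (z : Γ(O k a, chart k C₀.l)) :
    C₀.coP a (cst C₀.l r • z) = r • C₀.coP a z := by
  conv_lhs => rw [← C₀.evP_coP a z, ← mul_smul, ← evP_C C₀.l C₀.c, ← map_mul, coP_smul_e,
    ← MvPolynomial.smul_eq_C_mul]

/-- The truncated expansion of a section at the point. -/
def tau (z : Γ(O k a, chart k C₀.l)) : J b → k := trunc b (C₀.coP a z)

variable (p hp) in
/-- The ideal of the point. -/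
abbrev mI : (P2 k).IdealSheafData := Scheme.IdealSheafData.vanishingIdeal ⟨{p}, hp⟩

set_option synthInstance.maxHeartbeats 200000 in
theorem tau_eq_zero_iff (z : Γ(O k a, chart k C₀.l)) :
    C₀.tau a b z = 0 ↔ ∃ s, (Dual3.idealMulι ((mI p hp) ^ b) (O k a)).app (chart k C₀.l) s = z := by
  haveI := Mero90.isQCoh_of_isInvertible (isInvertible_O (k := k) a)
  let U : (P2 k).affineOpens := ⟨chart k C₀.l, Var76.ProjCoord.isAffineOpen_U k 2 C₀.l⟩
  have hIb : ((mI p hp) ^ b).ideal U = (MvPolynomial.idealOfVars (Fin 2) k ^ b).map (evP C₀.l C₀.c) := by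
    rw [Scheme.IdealSheafData.ideal_pow, Pi.pow_apply, C₀.ideal_eq, Ideal.map_pow]
  rw [tau, trunc_eq_zero_iff, QC70.mem_idealMul_iff ((mI p hp) ^ b) (O k a) U z]
  constructor
  · intro h
    rw [← C₀.evP_coP a z]
    exact Submodule.smul_mem_smul (hIb ▸ Ideal.mem_map_of_mem _ h) trivial
  · intro h
    have h' : ∃ c : Γ(P2 k, chart k C₀.l), c ∈ ((mI p hp) ^ b).ideal U ∧ c • C₀.e a = z := by
      refine Submodule.smul_induction_on
        (p := fun z => ∃ c : Γ(P2 k, chart k C₀.l), c ∈ ((mI p hp) ^ b).ideal U ∧ c • C₀.e a = z)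
        h ?_ ?_
      · intro g hg w _
        obtain ⟨c, rfl⟩ := (C₀.bij_e a).2 w
        exact ⟨(show Γ(P2 k, chart k C₀.l) from g) * c, Ideal.mul_mem_right _ _ hg, mul_smul _ c (C₀.e a)⟩
      · rintro _ _ ⟨c, hc, rfl⟩ ⟨c', hc', rfl⟩
        exact ⟨c + c', add_mem hc hc', add_smul _ _ _⟩
    obtain ⟨c, hc, rfl⟩ := h'
    rw [hIb] at hc
    obtain ⟨q, hq, rfl⟩ := (Ideal.mem_map_iff_of_surjective _ C₀.bij.2).1 hc
    rwa [coP_smul_e]

/-- The quotient of `O(a)` by `m^b O(a)`. -/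
abbrev Q (p : ↥(P2 k)) (hp : IsClosed ({p} : Set ↥(P2 k))) (a : ℤ) (b : ℕ) : (P2 k).Modules :=
  cokernel (Dual3.idealMulι ((mI p hp) ^ b) (O k a))

variable (p hp) in
/-- The sequence of `m^b O(a)`. -/
abbrev seqS : ShortComplex (P2 k).Modules :=
  ShortComplex.mk (Dual3.idealMulι ((mI p hp) ^ b) (O k a)) (cokernel.π _) (cokernel.condition _)

variable (p hp) in
theorem seqS_shortExact : (seqS p hp a b).ShortExact :=
  { exact := ShortComplex.exact_of_g_is_cokernel _ (cokernelIsCokernel _)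
    mono_f := inferInstanceAs (Mono (kernel.ι _))
    epi_g := inferInstance }

variable (p hp) in
theorem qc_sub : ((Dual3.idealMul ((mI p hp) ^ b)).obj (O k a)).IsQuasicoherent :=
  haveI := Mero90.isQCoh_of_isInvertible (isInvertible_O (k := k) a)
  QC70.isQuasicoherent_idealMul _ _

variable (p hp) in
theorem surjective_π {W : (P2 k).Opens} (hW : IsAffineOpen W) :
    Function.Surjective ((cokernel.π (Dual3.idealMulι ((mI p hp) ^ b) (O k a))).app W) :=
  haveI := qc_sub p hp a b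
  (BlowCech.sections_exact (seqS_shortExact p hp a b) W
    (CechComp71.subsingleton_E_affine ((Dual3.idealMul ((mI p hp) ^ b)).obj (O k a)) hW 0)).1

variable (p hp) in
theorem suppIn_Q : Crv77.SuppIn (Q p hp a b) {p} := fun x hx => by
  haveI := Mero90.isQCoh_of_isInvertible (isInvertible_O (k := k) a)
  refine subsingleton_of_forall_eq (α := (Q p hp a b).presheaf.stalk x) 0 fun y => ?_
  obtain ⟨V, hxV, s, rfl⟩ := QC70.germM_exist y
  obtain ⟨_, ⟨W, hW, rfl⟩, hxW, hle⟩ := (P2 k).isBasis_affineOpens.exists_subset_of_mem_open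
    (show x ∈ ((V : Set (P2 k)) ∩ ({p}ᶜ)) from ⟨hxV, hx⟩) (V.2.inter hp.isOpen_compl)
  rw [← QC70.germM_res (fun z hz => (hle hz).1 : W ≤ V) hxW]
  obtain ⟨w, hw⟩ := surjective_π p hp a b hW (QC70.res (Q p hp a b) (fun z hz => (hle hz).1 : W ≤ V) s)
  have htop : (mI p hp).ideal ⟨W, hW⟩ = ⊤ := CycCov52.ideal_eq_top_of_disjoint _ _ fun z hz h => by
    exact (hle hz).2 ((Scheme.IdealSheafData.coe_support_vanishingIdeal ⟨{p}, hp⟩).le h)
  let I : Ideal Γ(P2 k, W) := ((mI p hp) ^ b).ideal ⟨W, hW⟩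
  have hmem : w ∈ I • (⊤ : Submodule Γ(P2 k, W) Γ(O k a, W)) := by
    simp only [I]
    rw [Scheme.IdealSheafData.ideal_pow, Pi.pow_apply, htop, ← Ideal.one_eq_top, one_pow, Ideal.one_eq_top,
      Submodule.top_smul]
    trivial
  obtain ⟨c, rfl⟩ := (QC70.mem_idealMul_iff ((mI p hp) ^ b) (O k a) ⟨W, hW⟩ w).2 hmem
  have h0 : (cokernel.π (Dual3.idealMulι ((mI p hp) ^ b) (O k a))).app W
      ((Dual3.idealMulι ((mI p hp) ^ b) (O k a)).app W c) = 0 := BlowCech.app_zero_comp (seqS p hp a b) W c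
  rw [h0] at hw
  rw [← hw]
  exact map_zero _

/-- Expansion of global sections at the point. -/
def rho : Coh.HH (P2 k) (O k a) 0 →ₗ[k] (J b → k) where
  toFun x := C₀.tau a b (LineBundle.res (O k a) le_top (Crv77.sec _ x))
  map_add' x y := by
    rw [map_add]
    simp only [LineBundle.res, map_add]
    rw [tau, C₀.coP_add, map_add]
    rfl
  map_smul' r x := by
    rw [Crv77.sec_smul k, LineBundle.res_smul, res_toGlobal, tau, C₀.coP_const_smul, map_smul]
    rfl

/-- A lift of a section of the quotient on the chart. -/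
def lift (y : Γ(Q p hp a b, chart k C₀.l)) : Γ(O k a, chart k C₀.l) :=
  (surjective_π p hp a b (Var76.ProjCoord.isAffineOpen_U k 2 C₀.l) y).choose

theorem lift_spec (y : Γ(Q p hp a b, chart k C₀.l)) :
    (cokernel.π (Dual3.idealMulι ((mI p hp) ^ b) (O k a))).app _ (C₀.lift a b y) = y :=
  (surjective_π p hp a b (Var76.ProjCoord.isAffineOpen_U k 2 C₀.l) y).choose_spec

theorem tau_eq_of_π_eq {z z' : Γ(O k a, chart k C₀.l)}
    (h : (cokernel.π (Dual3.idealMulι ((mI p hp) ^ b) (O k a))).app _ z =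
      (cokernel.π (Dual3.idealMulι ((mI p hp) ^ b) (O k a))).app _ z') : C₀.tau a b z = C₀.tau a b z' := by
  haveI := qc_sub p hp a b
  have h0 : C₀.tau a b (z - z') = 0 := (C₀.tau_eq_zero_iff a b _).2
    ((BlowCech.sections_exact (seqS_shortExact p hp a b) _
      (CechComp71.subsingleton_E_affine ((Dual3.idealMul ((mI p hp) ^ b)).obj (O k a))
        (Var76.ProjCoord.isAffineOpen_U k 2 C₀.l) 0)).2 (z - z') (by
          show (cokernel.π (Dual3.idealMulι ((mI p hp) ^ b) (O k a))).app _ (z - z') = 0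
          rw [map_sub, h, sub_self]))
  have h1 : C₀.tau a b z = C₀.tau a b (z - z') + C₀.tau a b z' := by
    rw [tau, tau, tau, ← map_add, ← C₀.coP_add, sub_add_cancel]
  rw [h1, h0, zero_add]

/-- Sections of the quotient are truncated expansions. -/
def theta : Coh.HH (P2 k) (Q p hp a b) 0 →ₗ[k] (J b → k) where
  toFun x := C₀.tau a b (C₀.lift a b (LineBundle.res (Q p hp a b) le_top (Crv77.sec _ x)))
  map_add' x y := by
    rw [show C₀.tau a b (C₀.lift a b (LineBundle.res (Q p hp a b) le_top (Crv77.sec _ (x + y)))) =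
      C₀.tau a b (C₀.lift a b (LineBundle.res (Q p hp a b) le_top (Crv77.sec _ x)) +
        C₀.lift a b (LineBundle.res (Q p hp a b) le_top (Crv77.sec _ y))) from
      C₀.tau_eq_of_π_eq a b (by simp only [lift_spec, map_add])]
    rw [tau, tau, tau, C₀.coP_add, map_add]
  map_smul' r x := by
    rw [show C₀.tau a b (C₀.lift a b (LineBundle.res (Q p hp a b) le_top (Crv77.sec _ (r • x)))) =
      C₀.tau a b (cst C₀.l r • C₀.lift a b (LineBundle.res (Q p hp a b) le_top (Crv77.sec _ x))) from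
      C₀.tau_eq_of_π_eq a b (by
        rw [lift_spec, Scheme.Modules.Hom.app_smul, lift_spec, Crv77.sec_smul k, LineBundle.res_smul,
          res_toGlobal])]
    rw [tau, tau, C₀.coP_const_smul, map_smul]
    rfl

theorem theta_hmap (x : Coh.HH (P2 k) (O k a) 0) :
    C₀.theta a b (Crv77.hmap k (cokernel.π (Dual3.idealMulι ((mI p hp) ^ b) (O k a))) 0 x) = C₀.rho a b x := by
  refine C₀.tau_eq_of_π_eq a b ?_
  rw [lift_spec, Crv77.sec_hmap k, Mero90.app_res]

theorem theta_bijective : Function.Bijective (C₀.theta a b) := by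
  have hU : IsAffineOpen (chart k C₀.l) := Var76.ProjCoord.isAffineOpen_U k 2 C₀.l
  constructor
  · refine (injective_iff_map_eq_zero _).2 fun x hx => (Crv77.sec _).injective ?_
    rw [map_zero]
    obtain ⟨s, hs⟩ := (C₀.tau_eq_zero_iff a b _).1 hx
    have h0 : LineBundle.res (Q p hp a b) (le_top : chart k C₀.l ≤ ⊤) (Crv77.sec _ x) = 0 := by
      rw [← C₀.lift_spec a b (LineBundle.res (Q p hp a b) le_top (Crv77.sec _ x)), ← hs]
      exact BlowCech.app_zero_comp (seqS p hp a b) _ s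
    refine Var76.ZeroScheme.eq_of_locally _ _ _ fun z _ => ?_
    by_cases hz : z ∈ chart k C₀.l
    · exact ⟨_, le_top, hz, h0.trans (map_zero _).symm⟩
    · let V : (P2 k).Opens := ⟨({p} : Set (P2 k))ᶜ, hp.isOpen_compl⟩
      refine ⟨V, le_top, fun h => hz (h ▸ C₀.mem), ?_⟩
      rw [(suppIn_Q p hp a b).section_eq_zero (fun y hy => hy) (LineBundle.res (Q p hp a b) le_top (Crv77.sec _ x))]
      exact (map_zero _).symm
  · intro v
    obtain ⟨q, rfl⟩ := trunc_surjective b v
    obtain ⟨t, ht⟩ := (suppIn_Q p hp a b).surjective_res (Set.finite_singleton p)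
      (fun y hy => by rw [Set.mem_singleton_iff.1 hy]; exact hp) (le_top : chart k C₀.l ≤ ⊤)
      ((cokernel.π (Dual3.idealMulι ((mI p hp) ^ b) (O k a))).app _ (evP C₀.l C₀.c q • C₀.e a))
    refine ⟨(Crv77.sec _).symm t, ?_⟩
    show C₀.tau a b _ = _
    rw [C₀.tau_eq_of_π_eq a b (z' := evP C₀.l C₀.c q • C₀.e a), tau, coP_smul_e]
    rw [lift_spec, AddEquiv.apply_symm_apply]
    exact ht

theorem trunc_sub_mem_range (d : ℕ) (G : MvPolynomial (Fin 3) k) (hG : G.IsHomogeneous d) :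
    trunc b (sub C₀.l C₀.c G) ∈ LinearMap.range (C₀.rho (d : ℤ) b) := by
  let G' : LefPen.Form 2 k d := ⟨G, hG⟩
  refine ⟨(Crv77.sec _).symm (Twist.globalOf (CohB1.polyGrading 2 k) G'), ?_⟩
  show C₀.tau (d : ℤ) b (LineBundle.res (O k d) le_top (Crv77.sec _ _)) = _
  rw [AddEquiv.apply_symm_apply]
  have h := Crv77.res_globalOf G' C₀.l
  rw [show Crv77.dh G' C₀.l = evP C₀.l C₀.c (sub C₀.l C₀.c G) from
    (φ_eq_dehom C₀.l G').symm.trans (evP_sub C₀.l C₀.c G).symm] at h
  show trunc b (C₀.coP (d : ℤ) _) = _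
  exact congrArg (trunc b) ((congrArg (C₀.coP (d : ℤ)) h).trans (C₀.coP_smul_e (d : ℤ) _))

end Centre

end Groth.Agent.RegImm10.BlowP2
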