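import Groth.Agent.RegImm10.BlowP2.Seq

/-!
The cohomology of the twists `aH - bE` on the plane blown up at a point.
-/

set_option autoImplicit false
set_option linter.style.haveILetI false
set_option backward.isDefEq.respectTransparency.types false

noncomputable section

universe u

open CategoryTheory CategoryTheory.Limits AlgebraicGeometry Opposite TopologicalSpace

namespace Groth.Agent.RegImm10.BlowP2

open Centre (mI seqS seqS_shortExact Q suppIn_Q qc_sub)

variable {k : Type u} [Field k] {p : ↥(P2 k)} {hp : IsClosed ({p} : Set ↥(P2 k))}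

/-- The module `m^b O(a)`. -/
abbrev sub' (p : ↥(P2 k)) (hp : IsClosed ({p} : Set ↥(P2 k))) (a : ℤ) (b : ℕ) : (P2 k).Modules :=
  (Dual3.idealMul ((mI p hp) ^ b)).obj (O k a)

theorem choose_toNat_le {a : ℤ} {b : ℕ} (h : a + 1 ≤ b) : (a + 2).toNat.choose 2 ≤ (b + 1).choose 2 :=
  Nat.choose_le_choose 2 (by omega)

theorem le_choose_toNat {a : ℤ} {b : ℕ} (h : (b : ℤ) ≤ a + 1) :
    (b + 1).choose 2 ≤ (a + 2).toNat.choose 2 :=
  Nat.choose_le_choose 2 (by omega)

theorem finrank_O_zero (a : ℤ) :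
    Module.finrank k (Coh.HH (P2 k) (O k a) 0) = (a + 2).toNat.choose 2 := by
  rcases le_or_gt 0 a with ha | ha
  · obtain ⟨d, rfl⟩ := Int.eq_ofNat_of_zero_le ha
    exact (Var76.Reg.finrank_hh_twist (k := k) (n := 2) d).trans (by congr 1)
  · haveI := Pn71.subsingleton_hh 2 k a 0 (by omega) (by omega)
    rw [Module.finrank_zero_of_subsingleton, Nat.choose_eq_zero_of_lt (by omega)]

theorem finrank_O_two (a : ℤ) :
    Module.finrank k (Coh.HH (P2 k) (O k a) 2) = (-a - 1).toNat.choose 2 := by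
  rcases lt_or_ge a 0 with ha | ha
  · obtain ⟨d, hd, rfl⟩ : ∃ d : ℕ, 1 ≤ d ∧ a = -(d : ℤ) := ⟨(-a).toNat, by omega, by omega⟩
    rw [Crv77.finrank_hh_two_twist_neg d hd, Nat.choose_two_right,
      show (-(-(d : ℤ)) - 1).toNat = d - 1 by omega, show d - 1 - 1 = d - 2 by omega]
  · haveI := Pn71.subsingleton_hh 2 k a 2 (by omega) (by omega)
    rw [Module.finrank_zero_of_subsingleton, Nat.choose_eq_zero_of_lt (by omega)]

variable (C₀ : Centre p hp) (a : ℤ) (b : ℕ)

include C₀ in

/-- The cohomology of `m^b O(a)`. -/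
theorem sub_values :
    Module.finrank k (Coh.HH (P2 k) (sub' p hp a b) 0) = (a + 2).toNat.choose 2 - (b + 1).choose 2 ∧
      Module.finrank k (Coh.HH (P2 k) (sub' p hp a b) 1) = (b + 1).choose 2 - (a + 2).toNat.choose 2 ∧
      Module.finrank k (Coh.HH (P2 k) (sub' p hp a b) 2) = (-a - 1).toNat.choose 2 ∧
      ∀ q, 3 ≤ q → Subsingleton (Coh.HH (P2 k) (sub' p hp a b) q) := by
  classical
  let ι := Dual3.idealMulι ((mI p hp) ^ b) (O k a)
  have hS : (seqS p hp a b).ShortExact := seqS_shortExact p hp a b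
  have hQ : ∀ q, Subsingleton (Coh.HH (P2 k) (Q p hp a b) (q + 1)) := fun q =>
    (suppIn_Q p hp a b).subsingleton_HH (Set.finite_singleton p)
      (fun y hy => by rw [Set.mem_singleton_iff.1 hy]; exact hp) q
  let θ : Coh.HH (P2 k) (Q p hp a b) 0 ≃ₗ[k] (J b → k) :=
    LinearEquiv.ofBijective _ (C₀.theta_bijective a b)
  haveI : Module.Finite k (Coh.HH (P2 k) (Q p hp a b) 0) := Module.Finite.equiv θ.symm
  have hQ0 : Module.finrank k (Coh.HH (P2 k) (Q p hp a b) 0) = (b + 1).choose 2 := by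
    rw [θ.finrank_eq, Module.finrank_pi, card_J]
  let g₀ := Crv77.hmap k (seqS p hp a b).g 0
  let f₀ := Crv77.hmap k (seqS p hp a b).f 0
  have hr : Module.finrank k (LinearMap.range g₀) = min ((a + 2).toNat.choose 2) ((b + 1).choose 2) := by
    have h1 : Module.finrank k (LinearMap.range g₀) ≤ (a + 2).toNat.choose 2 :=
      (LinearMap.finrank_range_le g₀).trans (finrank_O_zero a).le
    have h2 : Module.finrank k (LinearMap.range g₀) ≤ (b + 1).choose 2 :=
      (Submodule.finrank_le _).trans hQ0.le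
    have hrho : C₀.rho a b = θ.toLinearMap.comp g₀ := LinearMap.ext fun x => (C₀.theta_hmap a b x).symm
    have hrr : Module.finrank k (LinearMap.range (C₀.rho a b)) = Module.finrank k (LinearMap.range g₀) := by
      rw [hrho, LinearMap.range_comp]
      exact θ.finrank_map_eq _
    refine le_antisymm (le_min h1 h2) ?_
    rcases le_or_gt 0 a with ha | ha
    · obtain ⟨d, rfl⟩ := Int.eq_ofNat_of_zero_le ha
      rw [← hrr]
      rcases le_or_gt b (d + 1) with hb | hb
      · have htop : LinearMap.range (C₀.rho (d : ℤ) b) = ⊤ := top_le_iff.1 fun v _ => by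
          obtain ⟨G, hG, rfl⟩ := trunc_sub_surjective C₀.l C₀.c hb v
          exact C₀.trunc_sub_mem_range b d G hG
        refine (min_le_right _ _).trans (le_of_eq ?_)
        rw [htop, finrank_top, Module.finrank_pi, card_J]
      · refine (min_le_left _ _).trans ?_
        rw [show ((d : ℤ) + 2).toNat = d + 2 by omega]
        exact rank_ge C₀.l C₀.c hb.le _ (C₀.trunc_sub_mem_range b d)
    · rw [Nat.choose_eq_zero_of_lt (by omega : (a + 2).toNat < 2), Nat.zero_min]
      exact Nat.zero_le _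
  have hker : LinearMap.ker g₀ = LinearMap.range f₀ :=
    (LinearMap.exact_iff.1 (Crv77.exact_f_g k hS 0))
  let δ := Crv77.hδ k hS 0
  have hkδ : LinearMap.ker δ = LinearMap.range g₀ :=
    (LinearMap.exact_iff.1 (Crv77.exact_g_δ k hS 0))
  refine ⟨?_, ?_, ?_, fun q hq => ?_⟩
  · have h := LinearMap.finrank_range_add_finrank_ker g₀
    rw [hker, LinearMap.finrank_range_of_inj (Crv77.injective_f_zero k hS), hr] at h
    have h' : Module.finrank k (Coh.HH (P2 k) (seqS p hp a b).X₂ 0) = _ := finrank_O_zero (k := k) a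
    simp only [seqS, sub'] at h h' ⊢
    omega
  · haveI : Subsingleton (Coh.HH (P2 k) (seqS p hp a b).X₂ 1) :=
      Pn71.subsingleton_hh 2 k a 1 (by omega) (by omega)
    have hδs : Function.Surjective δ := fun y =>
      ((Crv77.exact_δ_f k hS 0) y).1 (Subsingleton.elim _ _)
    have h := LinearMap.finrank_range_add_finrank_ker δ
    rw [LinearMap.range_eq_top.2 hδs, finrank_top, hkδ, hr] at h
    have h' : Module.finrank k (Coh.HH (P2 k) (seqS p hp a b).X₃ 0) = _ := hQ0
    simp only [seqS, sub', Nat.reduceAdd] at h h' ⊢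
    omega
  · have h1 := hQ 0
    have h2 := hQ 1
    have hb : Function.Bijective (Crv77.hmap k (seqS p hp a b).f 2) := by
      refine ⟨(injective_iff_map_eq_zero _).2 fun y hy => ?_, fun y => ?_⟩
      · obtain ⟨z, rfl⟩ := ((Crv77.exact_δ_f k hS 1) y).1 hy
        exact (congrArg _ (h1.elim z 0)).trans (map_zero _)
      · exact ((Crv77.exact_f_g k hS 2) y).1 (h2.elim _ _)
    exact (LinearEquiv.ofBijective _ hb).finrank_eq.trans (finrank_O_two a)
  · obtain ⟨q, rfl⟩ : ∃ m, q = m + 1 + 1 + 1 := ⟨q - 3, by omega⟩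
    refine subsingleton_of_forall_eq 0 fun y => ?_
    haveI : Subsingleton (Coh.HH (P2 k) (seqS p hp a b).X₂ (q + 1 + 1 + 1)) :=
      Pn71.subsingleton_hh 2 k a _ (by omega) (by omega)
    obtain ⟨z, rfl⟩ := ((Crv77.exact_δ_f k hS (q + 1 + 1)) y).1 (Subsingleton.elim _ _)
    exact (congrArg _ ((hQ (q + 1)).elim z 0)).trans (map_zero _)

variable [IsAlgClosed k] (p hp)

/-- The cohomology on the blown up plane is that of `m^b O(a)`. -/
theorem nonempty_equiv {X : Scheme.{u}} [X.Over (Spec (CommRingCat.of k))] (σ : X ⟶ P2 k)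
    (hσk : σ ≫ CohB1.ProjSpace.toSpec 2 k = X ↘ Spec (CommRingCat.of k))
    (hσ : BlowUp.IsBlowUp σ (mI p hp)) (q : ℕ) :
    Nonempty (Coh.HH X (BlowCech.pullMul σ (mI p hp) (O k a) b) q ≃ₗ[k]
      Coh.HH (P2 k) (sub' p hp a b) q) := by
  haveI : IsProper (P2 k ↘ Spec (CommRingCat.of k)) := Curves2.ProjLine.isProper_toSpec k 2
  have hI := hasGens_two p hp
  have hM := isInvertible_O (k := k) a
  obtain ⟨e⟩ := BlowCech.exists_iso_push hσ (by norm_num) hI hM b
  have hqc : ((Coh.push σ).obj (BlowCech.pullMul σ (mI p hp) (O k a) b)).IsQuasicoherent :=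
    QC70.isQuasicoherent_of_iso e.symm (qc_sub p hp a b)
  obtain ⟨f⟩ := BlowCech.nonempty_hhLin_push_of_acyclic (A := k) σ hσk _ hqc
    (BlowCech.FrameB σ (mI p hp) (O k a) 2)
    (fun W z hz => BlowCech.frameB_exists hσ hI hM W z hz)
    (fun V hV q => BlowCech.subsingleton_frameB hσ (by norm_num) hM b V hV q) q
  exact ⟨f.symm.trans (Crv77.hEquiv k e q)⟩

/-- The cohomology of `aH - bE`. -/
theorem values {X : Scheme.{u}} [X.Over (Spec (CommRingCat.of k))] (σ : X ⟶ P2 k)
    (hσk : σ ≫ CohB1.ProjSpace.toSpec 2 k = X ↘ Spec (CommRingCat.of k))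
    (hσ : BlowUp.IsBlowUp σ (mI p hp)) :
    Module.finrank k (Coh.HH X (BlowCech.pullMul σ (mI p hp) (O k a) b) 0) =
        (a + 2).toNat.choose 2 - (b + 1).choose 2 ∧
      Module.finrank k (Coh.HH X (BlowCech.pullMul σ (mI p hp) (O k a) b) 1) =
        (b + 1).choose 2 - (a + 2).toNat.choose 2 ∧
      Module.finrank k (Coh.HH X (BlowCech.pullMul σ (mI p hp) (O k a) b) 2) = (-a - 1).toNat.choose 2 ∧
      ∀ q, 3 ≤ q → Module.finrank k (Coh.HH X (BlowCech.pullMul σ (mI p hp) (O k a) b) q) = 0 := by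
  obtain ⟨C₀⟩ := nonempty_centre p hp
  obtain ⟨h0, h1, h2, h3⟩ := sub_values C₀ a b
  have e := fun q => (nonempty_equiv p hp a b σ hσk hσ q).some.finrank_eq
  refine ⟨(e 0).trans h0, (e 1).trans h1, (e 2).trans h2, fun q hq => (e q).trans ?_⟩
  haveI := h3 q hq
  exact Module.finrank_zero_of_subsingleton

/-- The Euler characteristic of `aH - bE`. -/
theorem euler_eq {X : Scheme.{u}} [X.Over (Spec (CommRingCat.of k))] (σ : X ⟶ P2 k)
    (hσk : σ ≫ CohB1.ProjSpace.toSpec 2 k = X ↘ Spec (CommRingCat.of k))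
    (hσ : BlowUp.IsBlowUp σ (mI p hp)) :
    Curv2.euler k X (BlowCech.pullMul σ (mI p hp) (O k a) b) =
      (a * a + 3 * a) / 2 - ((b : ℤ) * b + b) / 2 + 1 := by
  obtain ⟨h0, h1, h2, h3⟩ := values p hp a b σ hσk hσ
  rw [Curv2.euler, finsum_eq_sum_of_support_subset (s := Finset.range 3) _ fun i hi => by
    simp only [Finset.coe_range, Set.mem_Iio]
    by_contra hlt
    exact hi (by simp [h3 i (by omega)])]
  rw [Finset.sum_range_succ, Finset.sum_range_succ, Finset.sum_range_one, h0, h1, h2]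
  have key : ∀ n : ℕ, 2 * (n.choose 2 : ℤ) = (n : ℤ) * n - n := fun n => by
    induction n with
    | zero => simp
    | succ n ih =>
      rw [Nat.choose_succ_succ' n 1, Nat.choose_one_right]
      push_cast
      linarith
  have hb := key (b + 1)
  have hd : ((a + 2).toNat.choose 2 : ℤ) + ((-a - 1).toNat.choose 2 : ℤ) = (a * a + 3 * a) / 2 + 1 := by
    have h1 := key (a + 2).toNat
    have h2 := key (-a - 1).toNat
    have e2 : 2 * ((a + 2).toNat.choose 2 : ℤ) + 2 * ((-a - 1).toNat.choose 2 : ℤ) = a * a + 3 * a + 2 := by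
      rcases le_or_gt (-1) a with ha | ha
      · rw [h1, h2, show ((-a - 1).toNat : ℤ) = 0 by omega, show ((a + 2).toNat : ℤ) = a + 2 by omega]
        ring
      · rw [h1, h2, show ((-a - 1).toNat : ℤ) = -a - 1 by omega, show ((a + 2).toNat : ℤ) = 0 by omega]
        ring
    omega
  have hbb : ((b + 1).choose 2 : ℤ) = ((b : ℤ) * b + b) / 2 := by
    push_cast at hb
    ring_nf at hb ⊢
    omega
  rw [← hbb]
  simp only [pow_zero, one_mul, pow_one, neg_one_sq]
  omega

end Groth.Agent.RegImm10.BlowP2
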