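import Mathlib.RingTheory.MvPolynomial.Ideal
import Mathlib.RingTheory.MvPolynomial.Homogeneous
import Mathlib.LinearAlgebra.Dimension.Constructions
import Mathlib.LinearAlgebra.FiniteDimensional.Basic
import Mathlib.LinearAlgebra.StdBasis
import Mathlib.Algebra.BigOperators.Intervals
import Mathlib.Data.Nat.Choose.Sum

/-!
Truncation of polynomials in two variables below a degree, and dehomogenisation at a point.
-/

set_option autoImplicit false

noncomputable section

universe u

namespace Groth.Agent.RegImm10.BlowP2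

open MvPolynomial

/-- The exponents of degree less than `b`. -/
abbrev J (b : ℕ) : Type := (d : Fin b) × Fin (d.1 + 1)

/-- The exponent of an index. -/
def exp {b : ℕ} (j : J b) : Fin 2 →₀ ℕ :=
  Finsupp.single 0 j.2.1 + Finsupp.single 1 (j.1.1 - j.2.1)

theorem exp_apply_zero {b : ℕ} (j : J b) : exp j 0 = j.2.1 := by simp [exp]

theorem exp_apply_one {b : ℕ} (j : J b) : exp j 1 = j.1.1 - j.2.1 := by simp [exp]

theorem degree_exp {b : ℕ} (j : J b) : (exp j).degree = j.1.1 := by
  have := j.2.2
  rw [Finsupp.degree_eq_sum, Fin.sum_univ_two, exp_apply_zero, exp_apply_one]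
  omega

theorem exp_injective (b : ℕ) : Function.Injective (exp (b := b)) := by
  intro j j' h
  have hd : j.1.1 = j'.1.1 := by rw [← degree_exp j, ← degree_exp j', h]
  have h0 : j.2.1 = j'.2.1 := by rw [← exp_apply_zero j, ← exp_apply_zero j', h]
  obtain ⟨⟨d, hd'⟩, ⟨i, hi⟩⟩ := j
  obtain ⟨⟨d₂, hd₂⟩, ⟨i₂, hi₂⟩⟩ := j'
  simp only at hd h0
  subst hd h0
  rfl

theorem exists_exp {b : ℕ} (e : Fin 2 →₀ ℕ) (he : e.degree < b) : ∃ j : J b, exp j = e := by
  refine ⟨⟨⟨e.degree, he⟩, ⟨e 0, ?_⟩⟩, Finsupp.ext fun i => ?_⟩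
  · show e 0 < e.degree + 1
    rw [Finsupp.degree_eq_sum, Fin.sum_univ_two]
    omega
  · fin_cases i
    · simp [exp_apply_zero]
    · simp [exp_apply_one, Finsupp.degree_eq_sum, Fin.sum_univ_two]

theorem card_J (b : ℕ) : Fintype.card (J b) = (b + 1).choose 2 := by
  rw [Fintype.card_sigma]
  simp only [Fintype.card_fin]
  rw [Fin.sum_univ_eq_sum_range (fun i => i + 1) b]
  induction b with
  | zero => simp
  | succ b ih =>
    rw [Finset.sum_range_succ, ih, Nat.choose_succ_succ' (b + 1) 1, Nat.choose_one_right,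
      show (1 + 1 : ℕ) = 2 from rfl]
    omega

variable {k : Type u} [Field k]

/-- The coefficients below degree `b`. -/
def trunc (b : ℕ) : MvPolynomial (Fin 2) k →ₗ[k] (J b → k) :=
  LinearMap.pi fun j => lcoeff k (exp j)

theorem trunc_apply (b : ℕ) (q : MvPolynomial (Fin 2) k) (j : J b) : trunc b q j = coeff (exp j) q := rfl

theorem trunc_eq_zero_iff (b : ℕ) (q : MvPolynomial (Fin 2) k) :
    trunc b q = 0 ↔ q ∈ idealOfVars (Fin 2) k ^ b := by
  rw [mem_pow_idealOfVars_iff]
  constructor
  · intro h e he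
    by_contra hlt
    obtain ⟨j, rfl⟩ := exists_exp e (by omega : e.degree < b)
    exact mem_support_iff.1 he (congrFun h j)
  · intro h
    funext j
    by_contra hne
    have := h (exp j) (mem_support_iff.2 hne)
    rw [degree_exp] at this
    exact absurd j.1.2 (by omega)

theorem trunc_monomial [DecidableEq (Fin 2 →₀ ℕ)] (b : ℕ) (j : J b) (c : k) :
    trunc b (monomial (exp j) c) = Pi.single j c := by
  funext i
  rw [trunc_apply, coeff_monomial]
  by_cases h : j = i
  · subst h; simp
  · rw [if_neg fun e => h (exp_injective b e), Pi.single_eq_of_ne (fun e => h e.symm)]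

theorem trunc_surjective (b : ℕ) : Function.Surjective (trunc (k := k) b) := fun v => by
  classical
  refine ⟨∑ j, monomial (exp j) (v j), ?_⟩
  rw [map_sum]
  simp only [trunc_monomial]
  exact Finset.univ_sum_single v

/-- Dehomogenisation in the coordinates centred at a point with coordinate `l` equal to one. -/
def sub (l : Fin 3) (c : Fin 2 → k) : MvPolynomial (Fin 3) k →ₐ[k] MvPolynomial (Fin 2) k :=
  aeval (Fin.insertNth l (1 : MvPolynomial (Fin 2) k) fun i => X i + C (c i))

theorem sub_X_self (l : Fin 3) (c : Fin 2 → k) : sub l c (X l) = 1 := by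
  simp [sub]

theorem sub_X_succAbove (l : Fin 3) (c : Fin 2 → k) (i : Fin 2) :
    sub l c (X (l.succAbove i)) = X i + C (c i) := by
  simp [sub]

/-- The form of degree `p` with given dehomogenisation, on monomials. -/
def formMon (l : Fin 3) (c : Fin 2 → k) (p : ℕ) (e : Fin 2 →₀ ℕ) : MvPolynomial (Fin 3) k :=
  (∏ i, (X (l.succAbove i) - C (c i) * X l) ^ e i) * X l ^ (p - e.degree)

theorem isHomogeneous_formMon (l : Fin 3) (c : Fin 2 → k) {p : ℕ} {e : Fin 2 →₀ ℕ} (he : e.degree ≤ p) :
    (formMon l c p e).IsHomogeneous p := by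
  have h1 : (∏ i, (X (l.succAbove i) - C (c i) * X l) ^ e i).IsHomogeneous e.degree := by
    rw [Finsupp.degree_eq_sum]
    refine IsHomogeneous.prod _ _ _ fun i _ => ?_
    simpa using (((isHomogeneous_X k (l.succAbove i)).sub ((isHomogeneous_X k l).C_mul (c i))).pow (e i))
  have h2 := h1.mul (isHomogeneous_X_pow l (p - e.degree) (R := k))
  rwa [Nat.add_sub_cancel' he] at h2

theorem sub_formMon (l : Fin 3) (c : Fin 2 → k) (p : ℕ) (e : Fin 2 →₀ ℕ) :
    sub l c (formMon l c p e) = monomial e 1 := by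
  simp [formMon, sub_X_self, sub_X_succAbove, monomial_eq, Finsupp.prod_fintype]

theorem exists_form (l : Fin 3) (c : Fin 2 → k) (p : ℕ) (q : MvPolynomial (Fin 2) k)
    (hq : ∀ e ∈ q.support, e.degree ≤ p) :
    ∃ G : MvPolynomial (Fin 3) k, G.IsHomogeneous p ∧ sub l c G = q := by
  refine ⟨∑ e ∈ q.support, C (q.coeff e) * formMon l c p e, IsHomogeneous.sum _ _ _ fun e he =>
    (isHomogeneous_formMon l c (hq e he)).C_mul _, ?_⟩
  conv_rhs => rw [q.as_sum]
  rw [map_sum]
  refine Finset.sum_congr rfl fun e _ => ?_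
  rw [map_mul, sub_formMon, show sub l c (C (q.coeff e)) = C (q.coeff e) from (sub l c).commutes _,
    C_mul_monomial, mul_one]

theorem trunc_sub_surjective (l : Fin 3) (c : Fin 2 → k) {p b : ℕ} (h : b ≤ p + 1) (v : J b → k) :
    ∃ G : MvPolynomial (Fin 3) k, G.IsHomogeneous p ∧ trunc b (sub l c G) = v := by
  classical
  obtain ⟨G, hG, hsub⟩ := exists_form l c p (∑ j, monomial (exp j) (v j)) fun e he => by
    obtain ⟨j, -, hj⟩ := Finset.mem_biUnion.1 (support_sum he)
    have := Finset.mem_singleton.1 (support_monomial_subset hj)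
    rw [this, degree_exp]
    have := j.1.2
    omega
  refine ⟨G, hG, ?_⟩
  rw [hsub, map_sum]
  simp only [trunc_monomial]
  exact Finset.univ_sum_single v

theorem rank_ge (l : Fin 3) (c : Fin 2 → k) {p b : ℕ} (h : p + 1 ≤ b) {V : Type u} [AddCommGroup V]
    [Module k V] [Module.Finite k V] (f : V →ₗ[k] (J b → k))
    (hf : ∀ G : MvPolynomial (Fin 3) k, G.IsHomogeneous p → trunc b (sub l c G) ∈ LinearMap.range f) :
    (p + 2).choose 2 ≤ Module.finrank k (LinearMap.range f) := by
  classical
  let ι : J (p + 1) → J b := fun j => ⟨⟨j.1.1, lt_of_lt_of_le j.1.2 h⟩, ⟨j.2.1, j.2.2⟩⟩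
  have hι : Function.Injective ι := fun j j' e => exp_injective _ (congrArg (exp (b := b)) e : _)
  have hmem : ∀ j, (Pi.single (ι j) (1 : k) : J b → k) ∈ LinearMap.range f := fun j => by
    obtain ⟨G, hG, hsub⟩ := exists_form l c p (monomial (exp (ι j)) 1) fun e he => by
      rw [Finset.mem_singleton.1 (support_monomial_subset he), degree_exp]
      have := j.1.2
      show j.1.1 ≤ p
      omega
    have h' := hf G hG
    rwa [hsub, trunc_monomial] at h'
  have hli : LinearIndependent k (fun j => (⟨Pi.single (ι j) (1 : k), hmem j⟩ : LinearMap.range f)) := by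
    apply LinearIndependent.of_comp (LinearMap.range f).subtype
    have := (Pi.basisFun k (J b)).linearIndependent.comp ι hι
    convert this using 1
    funext j
    simp
  have := LinearIndependent.fintype_card_le_finrank hli
  rwa [card_J] at this

end Groth.Agent.RegImm10.BlowP2
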