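import Groth.Agent.RegImm10.BlowP2.Algebra
import Groth.Agent.RegImm10.BlowCech.Locus
import Groth.Agent.Crv77.PlaneCoh
import Groth.Agent.Var76.ProjCoord
import Mathlib.RingTheory.Jacobson.Ring
import Mathlib.FieldTheory.IsAlgClosed.Basic

/-!
Coordinates of the projective plane centred at a closed point.
-/

set_option autoImplicit false
set_option linter.style.haveILetI false
set_option backward.isDefEq.respectTransparency.types false

noncomputable section

universe u

open CategoryTheory CategoryTheory.Limits AlgebraicGeometry Opposite TopologicalSpace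
open scoped nonZeroDivisors

namespace Groth.Agent.RegImm10.BlowP2

open MvPolynomial (X C)

variable {k : Type u} [Field k]

/-- The projective plane. -/
abbrev P2 (k : Type u) [Field k] : Scheme.{u} := CohB1.ProjSpace 2 k

/-- A standard affine open. -/
abbrev chart (k : Type u) [Field k] (l : Fin 3) : (P2 k).Opens := Var76.ProjCoord.U k 2 l

/-- The constants on a standard open. -/
abbrev cst (l : Fin 3) : k →+* Γ(P2 k, chart k l) :=
  Var76.BertiniScheme.const (k := k) (P2 k) (chart k l)

/-- A ratio of coordinates. -/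
abbrev ratio (l i : Fin 3) : Γ(P2 k, chart k l) :=
  Proj.awayToSection (CohB1.polyGrading 2 k) (MvPolynomial.X l)
    (Var76.ProjCoord.frac k 2 l (Var76.ProjCoord.X₁ k 2 i))

/-- Dehomogenisation of polynomials on a standard open. -/
def φ (l : Fin 3) : MvPolynomial (Fin 3) k →+* Γ(P2 k, chart k l) :=
  MvPolynomial.eval₂Hom (cst l) (ratio l)

theorem ratio_self (l : Fin 3) : ratio (k := k) l l = 1 := by
  have : Var76.ProjCoord.frac k 2 l (Var76.ProjCoord.X₁ k 2 l) = 1 :=
    HomogeneousLocalization.val_injective _ (by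
      rw [Var76.ProjCoord.frac, HomogeneousLocalization.val_mk, HomogeneousLocalization.val_one]
      exact Localization.mk_self_mk (M := MvPolynomial (Fin 3) k) _ _)
  rw [ratio, this]
  exact map_one _

theorem φ_surjective (l : Fin 3) : Function.Surjective (φ (k := k) l) := fun x =>
  Var76.ProjCoord.exists_eval₂_eq k 2 l x

theorem φ_eq_dehom (l : Fin 3) {d : ℕ} (G : LefPen.Form 2 k d) :
    φ l G.1 = LefPen.dehom G l := by
  let 𝒜 := CohB1.polyGrading 2 k
  let f : MvPolynomial (Fin 3) k := MvPolynomial.X l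
  let a := Proj.awayToSection 𝒜 f
  let c' : k →+* HomogeneousLocalization.Away 𝒜 f :=
    (HomogeneousLocalization.fromZeroRingHom 𝒜 _).comp (algebraMap k (𝒜 0))
  have hc : cst (k := k) l = a.hom.comp c' :=
    congrArg CommRingCat.Hom.hom (Var76.ProjCoord.const_eq k 2 l)
  show MvPolynomial.eval₂ (cst l) (ratio l) G.1 = _
  rw [hc]
  show MvPolynomial.eval₂ (a.hom.comp c')
    (a.hom ∘ fun i => Var76.ProjCoord.frac k 2 l (Var76.ProjCoord.X₁ k 2 i)) G.1 = _
  rw [← MvPolynomial.eval₂_comp_left a.hom c']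
  refine congrArg a.hom (HomogeneousLocalization.val_injective _ ?_)
  let L := Localization (Submonoid.powers f)
  let v : HomogeneousLocalization.Away 𝒜 f →+* L := algebraMap (HomogeneousLocalization.Away 𝒜 f) L
  show v _ = _
  rw [MvPolynomial.eval₂_comp_left v, HomogeneousLocalization.Away.val_mk, Localization.mk_eq_mk',
    IsLocalization.eq_mk'_iff_mul_eq]
  have hdeg : G.1.IsHomogeneous d := G.2
  have hv : ∀ i, v (Var76.ProjCoord.frac k 2 l (Var76.ProjCoord.X₁ k 2 i)) * algebraMap _ L f =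
      algebraMap _ L (MvPolynomial.X i) := fun i => by
    show (Var76.ProjCoord.frac k 2 l (Var76.ProjCoord.X₁ k 2 i)).val * _ = _
    rw [Var76.ProjCoord.frac, HomogeneousLocalization.val_mk, Localization.mk_eq_mk']
    exact IsLocalization.mk'_spec _ _ _
  have hcst : ∀ r, v (c' r) = algebraMap _ L (MvPolynomial.C r) := fun r => by
    show (c' r).val = _
    exact (Localization.mk_one_eq_algebraMap _)
  show MvPolynomial.eval₂ (v.comp c') (v ∘ fun i => Var76.ProjCoord.frac k 2 l (Var76.ProjCoord.X₁ k 2 i)) G.1 *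
    algebraMap _ L (f ^ d) = algebraMap _ L G.1
  conv_rhs => rw [G.1.as_sum, map_sum]
  rw [MvPolynomial.eval₂_eq, Finset.sum_mul]
  refine Finset.sum_congr rfl fun e he => ?_
  have he' : e.degree = d := by
    by_contra hne
    exact MvPolynomial.mem_support_iff.1 he (hdeg.coeff_eq_zero hne)
  rw [MvPolynomial.monomial_eq, map_mul, RingHom.comp_apply, hcst, mul_assoc, map_pow,
    show algebraMap (MvPolynomial (Fin 3) k) L f ^ d = algebraMap (MvPolynomial (Fin 3) k) L f ^ e.degree by rw [he'],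
    Finsupp.degree_apply, ← Finset.prod_pow_eq_pow_sum, ← Finset.prod_mul_distrib, Finsupp.prod, map_prod]
  refine congrArg _ (Finset.prod_congr rfl fun i _ => ?_)
  rw [map_pow, Function.comp_apply, ← mul_pow, hv]

/-- Polynomials in the coordinates centred at the point with coordinates `c`. -/
def evP (l : Fin 3) (c : Fin 2 → k) : MvPolynomial (Fin 2) k →+* Γ(P2 k, chart k l) :=
  MvPolynomial.eval₂Hom (cst l) fun i => ratio l (l.succAbove i) - cst l (c i)

theorem evP_C (l : Fin 3) (c : Fin 2 → k) (r : k) : evP l c (C r) = cst l r :=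
  MvPolynomial.eval₂_C _ _ _

theorem evP_sub (l : Fin 3) (c : Fin 2 → k) (G : MvPolynomial (Fin 3) k) :
    evP l c (sub l c G) = φ l G := by
  have : (evP l c).comp (sub l c).toRingHom = φ l := by
    refine MvPolynomial.ringHom_ext (fun r => ?_) fun i => ?_
    · show evP l c (sub l c (C r)) = φ l (C r)
      rw [show sub l c (C r) = C r from (sub l c).commutes r, evP_C]
      exact (MvPolynomial.eval₂_C _ _ _).symm
    · show evP l c (sub l c (X i)) = φ l (X i)
      rcases Fin.eq_self_or_eq_succAbove l i with rfl | ⟨j, rfl⟩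
      · rw [sub_X_self, map_one]
        simp [φ, ratio_self]
      · rw [sub_X_succAbove, map_add, evP_C]
        simp [evP, φ]
  exact RingHom.congr_fun this G

theorem evP_bijective (l : Fin 3) (c : Fin 2 → k) [Nontrivial Γ(P2 k, chart k l)] :
    Function.Bijective (evP l c) := by
  constructor
  · refine (injective_iff_map_eq_zero _).2 fun q hq => ?_
    obtain ⟨G, hG, rfl⟩ := exists_form l c q.totalDegree q fun e he =>
      MvPolynomial.le_totalDegree he
    rw [evP_sub] at hq
    by_contra hne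
    let G' : LefPen.Form 2 k (MvPolynomial.totalDegree (sub l c G)) := ⟨G, hG⟩
    have hG' : G' ≠ 0 := fun h => hne (by rw [show G = 0 from congrArg Subtype.val h, map_zero])
    have hnz := Crv77.dehom_mem_nonZeroDivisors G' hG' l
    rw [← φ_eq_dehom, show φ l G'.1 = 0 from hq] at hnz
    exact zero_notMem_nonZeroDivisors hnz
  · intro x
    obtain ⟨G, rfl⟩ := φ_surjective l x
    exact ⟨sub l c G, evP_sub l c G⟩

/-- A chart at a closed point with the maximal ideal generated by the two affine coordinates. -/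
structure Centre (p : ↥(P2 k)) (hp : IsClosed ({p} : Set ↥(P2 k))) where
  l : Fin 3
  c : Fin 2 → k
  mem : p ∈ chart k l
  bij : Function.Bijective (evP l c)
  ideal_eq : (Scheme.IdealSheafData.vanishingIdeal ⟨{p}, hp⟩).ideal
      ⟨chart k l, Var76.ProjCoord.isAffineOpen_U k 2 l⟩ =
    (MvPolynomial.idealOfVars (Fin 2) k).map (evP l c)

theorem nonempty_centre [IsAlgClosed k] (p : ↥(P2 k)) (hp : IsClosed ({p} : Set ↥(P2 k))) :
    Nonempty (Centre p hp) := by
  obtain ⟨l, hl⟩ := Var76.ProjCoord.exists_mem_U k 2 p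
  have hU : IsAffineOpen (chart k l) := Var76.ProjCoord.isAffineOpen_U k 2 l
  let A := Γ(P2 k, chart k l)
  haveI : Nontrivial A := ⟨⟨0, 1, fun h => by
    have := congrArg ((P2 k).presheaf.germ (chart k l) p hl) h
    rw [map_zero, map_one] at this
    exact zero_ne_one this⟩⟩
  let 𝔭 := hU.primeIdealOf ⟨p, hl⟩
  have hI : (Scheme.IdealSheafData.vanishingIdeal ⟨{p}, hp⟩).ideal ⟨chart k l, hU⟩ = 𝔭.asIdeal := by
    rw [Scheme.IdealSheafData.vanishingIdeal_ideal]
    have h2 : hU.fromSpec ⁻¹' ({p} : Set (P2 k)) = {𝔭} := by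
      ext y
      simp only [Set.mem_singleton_iff, Set.mem_preimage]
      exact ⟨fun h => hU.fromSpec.isOpenEmbedding.injective
          (h.trans (hU.fromSpec_primeIdealOf ⟨p, hl⟩).symm),
        fun h => h ▸ hU.fromSpec_primeIdealOf ⟨p, hl⟩⟩
    exact (congrArg PrimeSpectrum.vanishingIdeal h2).trans (PrimeSpectrum.vanishingIdeal_singleton _)
  have hmax : 𝔭.asIdeal.IsMaximal := by
    rw [← PrimeSpectrum.isClosed_singleton_iff_isMaximal]
    have h2 : hU.fromSpec ⁻¹' ({p} : Set (P2 k)) = {𝔭} := by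
      ext y
      simp only [Set.mem_singleton_iff, Set.mem_preimage]
      exact ⟨fun h => hU.fromSpec.isOpenEmbedding.injective
          (h.trans (hU.fromSpec_primeIdealOf ⟨p, hl⟩).symm),
        fun h => h ▸ hU.fromSpec_primeIdealOf ⟨p, hl⟩⟩
    exact (congrArg (fun Z : Set (PrimeSpectrum A) => IsClosed Z) h2).mp (hp.preimage hU.fromSpec.continuous)
  letI : Algebra k A := (cst l).toAlgebra
  haveI : Algebra.FiniteType k A := by
    refine Algebra.FiniteType.of_surjective (MvPolynomial.aeval (R := k) (ratio (k := k) l)) fun x => ?_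
    obtain ⟨G, rfl⟩ := φ_surjective l x
    exact ⟨G, rfl⟩
  haveI := hmax
  letI : Field (A ⧸ 𝔭.asIdeal) := Ideal.Quotient.field _
  haveI : Algebra.FiniteType k (A ⧸ 𝔭.asIdeal) :=
    Algebra.FiniteType.of_surjective (Ideal.Quotient.mkₐ k 𝔭.asIdeal) Ideal.Quotient.mk_surjective
  haveI : Module.Finite k (A ⧸ 𝔭.asIdeal) := finite_of_finite_type_of_isJacobsonRing k _
  have hsurj := (IsAlgClosed.algebraMap_bijective_of_isIntegral (k := k) (K := A ⧸ 𝔭.asIdeal)).2
  choose c hc using fun i : Fin 2 => hsurj (Ideal.Quotient.mk _ (ratio l (l.succAbove i)))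
  have hbij := evP_bijective l c
  refine ⟨⟨l, c, hl, hbij, ?_⟩⟩
  rw [hI]
  symm
  have hle : (MvPolynomial.idealOfVars (Fin 2) k).map (evP l c) ≤ 𝔭.asIdeal := by
    rw [MvPolynomial.idealOfVars, Ideal.map_span, Ideal.span_le]
    rintro _ ⟨_, ⟨i, rfl⟩, rfl⟩
    have h1 : evP l c (X i) = ratio l (l.succAbove i) - cst l (c i) := MvPolynomial.eval₂_X _ _ _
    rw [h1, SetLike.mem_coe, ← Ideal.Quotient.eq_zero_iff_mem, map_sub, sub_eq_zero, ← hc i]
    rfl
  haveI : (MvPolynomial.idealOfVars (Fin 2) k).IsMaximal := by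
    have : MvPolynomial.idealOfVars (Fin 2) k =
        RingHom.ker (MvPolynomial.constantCoeff : MvPolynomial (Fin 2) k →+* k) := by
      ext q
      rw [RingHom.mem_ker, ← pow_one (MvPolynomial.idealOfVars (Fin 2) k),
        MvPolynomial.mem_pow_idealOfVars_iff', MvPolynomial.constantCoeff_eq]
      exact ⟨fun h => h 0 (by simp), fun h x hx => by
        rw [show x = 0 from (Finsupp.degree_eq_zero_iff x).1 (by omega)]
        exact h⟩
    rw [this]
    exact RingHom.ker_isMaximal_of_surjective _ fun r => ⟨C r, MvPolynomial.constantCoeff_C _ r⟩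
  exact ((‹(MvPolynomial.idealOfVars (Fin 2) k).IsMaximal›.map_bijective (evP l c) hbij).eq_of_le hmax.ne_top hle)

theorem hasGens_two [IsAlgClosed k] (p : ↥(P2 k)) (hp : IsClosed ({p} : Set ↥(P2 k))) :
    BlowCech.HasGens (Scheme.IdealSheafData.vanishingIdeal ⟨{p}, hp⟩) 2 := by
  refine BlowCech.hasGens_of_support (by norm_num) fun x hx => ?_
  have hxp : x = p := by
    have h2 : x ∈ (({p} : Set ↥(P2 k))) := by
      have h3 := Scheme.IdealSheafData.coe_support_vanishingIdeal ⟨{p}, hp⟩
      exact h3.le hx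
    exact h2
  obtain ⟨C₀⟩ := nonempty_centre p hp
  subst hxp
  refine ⟨⟨chart k C₀.l, Var76.ProjCoord.isAffineOpen_U k 2 C₀.l⟩, C₀.mem,
    [evP C₀.l C₀.c (X 0), evP C₀.l C₀.c (X 1)], le_rfl, ?_, ?_⟩
  · let e := RingEquiv.ofBijective _ C₀.bij
    refine Koszul19.kR_cons_of_regular _ _ (Koszul19.kR_cons_of_regular _ _ Koszul19.kR_nil fun a ha => ?_)
      fun a ha => ?_
    · obtain ⟨q, rfl⟩ := C₀.bij.2 a
      rw [Ideal.ofList_nil, Ideal.mem_bot, ← map_mul] at ha
      rcases mul_eq_zero.1 (C₀.bij.1 (ha.trans (map_zero _).symm)) with h | h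
      · exact absurd h (MvPolynomial.X_ne_zero 1)
      · simp [h]
    · obtain ⟨q, rfl⟩ := C₀.bij.2 a
      rw [Ideal.ofList_singleton, Ideal.mem_span_singleton, ← map_mul] at ha
      obtain ⟨d, hd⟩ := ha
      obtain ⟨d', rfl⟩ := C₀.bij.2 d
      rw [← map_mul] at hd
      have h := C₀.bij.1 hd
      rw [Ideal.ofList_singleton, Ideal.mem_span_singleton]
      refine map_dvd (evP C₀.l C₀.c) ?_
      refine ((MvPolynomial.X_prime (i := (1 : Fin 2))).dvd_or_dvd ⟨d', h⟩).resolve_left ?_
      rw [MvPolynomial.X_dvd_X]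
      simp
  · rw [C₀.ideal_eq, MvPolynomial.idealOfVars, Ideal.map_span, Ideal.ofList]
    congr 1
    ext z
    simp [Set.mem_image, Fin.exists_fin_two, eq_comm]

end Groth.Agent.RegImm10.BlowP2
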